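import Groth.Agent.FlatMor12.ElemNbhd
import Groth.Agent.FlatMorThick.Lft

/-!
# Splitting off a quasi-finite point in an elementary étale neighbourhood, with uniqueness
-/

set_option backward.isDefEq.respectTransparency false

universe u

namespace Groth.Agent.FlatMorQFSplit

open AlgebraicGeometry CategoryTheory Limits TensorProduct Groth.Agent.FlatMor12

attribute [local instance] Localization.AtPrime.algebraOfLiesOver

variable {X S : Scheme.{u}} (f : X ⟶ S)

set_option backward.defeqAttrib.useBackward true in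
/-- A quasi-finite point has an elementary étale neighbourhood splitting off a finite clopen part. -/
theorem exists_split_unique [LocallyOfFiniteType f] {x : X} {s : S}
    (h : f x = s) (hx : f.QuasiFiniteAt x) :
    ∃ (U : Scheme.{u}) (g : U ⟶ S) (u : U), Hens2.IsEtaleNbhd g u s ∧
      ∃ (V : (pullback f g).Opens) (v : ↑(pullback f g)),
        IsFinite (V.ι ≫ pullback.snd f g) ∧ v ∈ V ∧ pullback.fst f g v = x ∧
        pullback.snd f g v = u ∧ ∀ w ∈ V, pullback.snd f g w = u → w = v := by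
  obtain ⟨_, ⟨U, hU, rfl⟩, hxU, -⟩ := S.isBasis_affineOpens.exists_subset_of_mem_open
    (Set.mem_univ (f x)) isOpen_univ
  obtain ⟨_, ⟨V, hV, rfl⟩, hxV, hUV : V ≤ f ⁻¹ᵁ U⟩ :=
    X.isBasis_affineOpens.exists_subset_of_mem_open hxU (f ⁻¹ᵁ U).2
  have : (f.appLE U V hUV).hom.FiniteType := f.finiteType_appLE hU hV hUV
  algebraize [(f.appLE U V hUV).hom]
  have : (hV.primeIdealOf ⟨x, hxV⟩).asIdeal.LiesOver (hU.primeIdealOf ⟨f x, hxU⟩).asIdeal := by
    suffices hU.primeIdealOf ⟨f x, hxU⟩ = Spec.map (f.appLE U V hUV) (hV.primeIdealOf ⟨x, hxV⟩) from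
      ⟨congr(($this).1)⟩
    apply hU.isoSpec.inv.homeomorph.injective
    apply Subtype.ext
    simp only [IsAffineOpen.primeIdealOf, Scheme.Hom.homeomorph_apply,
      ← Scheme.Hom.comp_apply, ← Scheme.Opens.ι_apply, IsAffineOpen.isoSpec_hom]
    simp
  have : Algebra.QuasiFiniteAt Γ(S, U) (hV.primeIdealOf ⟨x, hxV⟩).asIdeal :=
    hx.quasiFiniteAt hV hU hUV hxV
  obtain ⟨R, _, _, _, P, _, hPp, e, _, P', _, _, hP', heP', hbij, _, huniq⟩ :=
    Algebra.exists_etale_isIdempotentElem_forall_liesOver_eq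
    (hU.primeIdealOf ⟨f x, hxU⟩).asIdeal (hV.primeIdealOf ⟨x, hxV⟩).asIdeal
  have : (algebraMap R (Localization.Away e)).Finite := RingHom.finite_algebraMap.mpr ‹_›
  let φ : Γ(S, U) ⟶ .of R := CommRingCat.ofHom <| algebraMap Γ(S, U) R
  have hφ : φ.hom.Etale := RingHom.etale_algebraMap.mpr ‹_›
  have : Etale (Spec.map φ) := HasRingHomProperty.Spec_iff.mpr hφ
  let e₁ : Spec (.of (R ⊗ Γ(X, V))) ≅ pullback (Spec.map (f.appLE U V hUV)) (Spec.map φ) :=
    (pullbackSpecIso _ _ _).symm ≪≫ pullbackSymmetry _ _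
  have he₁ : e₁.hom ≫ pullback.fst _ _ =
      Spec.map (CommRingCat.ofHom Algebra.TensorProduct.includeRight.toRingHom) := by
    dsimp [e₁, RingHom.algebraMap_toAlgebra]
    rw [Category.assoc, pullbackSymmetry_hom_comp_fst]
    exact pullbackSpecIso_inv_snd ..
  let g : Spec (.of (R ⊗[Γ(S, U)] Γ(X, V))) ⟶ pullback f (Spec.map φ ≫ hU.fromSpec) :=
    e₁.hom ≫ pullback.map _ _ _ _ hV.fromSpec (𝟙 _) hU.fromSpec
      (IsAffineOpen.SpecMap_appLE_fromSpec ..) (by simp)
  let W₁ := g ''ᵁ PrimeSpectrum.basicOpen e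
  have : IsFinite (W₁.ι ≫ pullback.snd f _) := by
    let ι : Spec (.of (Localization.Away e)) ⟶ pullback f (Spec.map φ ≫ hU.fromSpec) :=
      Spec.map (CommRingCat.ofHom <| algebraMap _ _) ≫ g
    have : ι.opensRange = W₁ := by
      simp only [Scheme.Hom.opensRange_comp, ι, W₁]
      congr 1
      exact TopologicalSpace.Opens.ext <| PrimeSpectrum.localization_away_comap_range _ _
    rw [← this, ← MorphismProperty.cancel_left_of_respectsIso @IsFinite
      (Scheme.Hom.isoOpensRange _).hom]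
    have H : (pullbackSpecIso _ R _).inv ≫ pullback.fst _ (Spec.map (f.appLE U V hUV)) = _ :=
      pullbackSpecIso_inv_fst ..
    simpa [Scheme.Hom.isoOpensRange, ι, g, e₁, RingHom.algebraMap_toAlgebra, φ, H,
      ← Spec.map_comp, IsFinite.SpecMap_iff]
  let u : Spec (.of R) := ⟨P, ‹_›⟩
  have hu : hU.fromSpec (Spec.map φ u) = s := by
    dsimp [Spec.map_apply]
    convert! hU.fromSpec_primeIdealOf ⟨f x, hxU⟩
    · exact PrimeSpectrum.ext (Ideal.over_def _ _).symm
    · simp [h]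
  have he₂ : e₁.hom ≫ pullback.snd _ _ =
      Spec.map (CommRingCat.ofHom Algebra.TensorProduct.includeLeftRingHom) := by
    dsimp [e₁]
    rw [Category.assoc]
    erw [pullbackSymmetry_hom_comp_snd]
    exact pullbackSpecIso_inv_fst ..
  have hsnd : ∀ y : PrimeSpectrum (R ⊗[Γ(S, U)] Γ(X, V)), pullback.snd f _ (g y) =
      (⟨y.asIdeal.comap Algebra.TensorProduct.includeLeftRingHom, inferInstance⟩ : PrimeSpectrum R) := by
    intro y
    simp [← Scheme.Hom.comp_apply, -Scheme.Hom.comp_base, g, he₂]; rfl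
  refine ⟨Spec (.of R), Spec.map φ ≫ hU.fromSpec, u, ⟨inferInstance, hu, ?_⟩, W₁, g ⟨P', ‹_›⟩,
    ‹_›, ⟨⟨P', ‹_›⟩, heP', rfl⟩, ?_, hsnd _ |>.trans (PrimeSpectrum.ext (P'.over_def P).symm), ?_⟩
  · rw [Scheme.residueFieldMap_comp]
    have h1 := residueFieldMap_specMap_bijective (hU.primeIdealOf ⟨f x, hxU⟩).asIdeal P hbij
    have : IsIso (hU.fromSpec.residueFieldMap (Spec.map φ u)) := inferInstance
    exact Function.Bijective.comp (g := ⇑((Spec.map φ).residueFieldMap u)) h1
      ((ConcreteCategory.isIso_iff_bijective _).1 this)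
  · trans hV.fromSpec ⟨P'.comap Algebra.TensorProduct.includeRight.toRingHom, inferInstance⟩
    · simp [← Scheme.Hom.comp_apply, -Scheme.Hom.comp_base, g, reassoc_of% he₁]; rfl
    convert! hV.fromSpec_primeIdealOf ⟨x, hxV⟩
  · rintro w ⟨y, hy, rfl⟩ hw
    replace hw := (hsnd y).symm.trans hw
    congr 1
    exact PrimeSpectrum.ext (huniq y.asIdeal y.2 ⟨congr(($hw).1).symm⟩ hy)

theorem fst_residueFieldMap_bijective {U : Scheme.{u}} {g : U ⟶ S} {u : U} {s : S}
    (h : Hens2.IsEtaleNbhd g u s) (v : ↑(pullback f g)) (hv : pullback.snd f g v = u) :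
    Function.Bijective ((pullback.fst f g).residueFieldMap v) := by
  obtain ⟨φ, hφi, hφ⟩ := exists_fiber_iso f h
  obtain ⟨z, rfl⟩ : v ∈ Set.range ((pullback.snd f g).fiberι u) := by
    rw [Scheme.Hom.range_fiberι]; exact hv
  have h1 := FlatMorThick.isIso_residueFieldMap (φ ≫ f.fiberι s) z
  have h2 := FlatMorThick.isIso_residueFieldMap ((pullback.snd f g).fiberι u) z
  have h3 : IsIso (((pullback.snd f g).fiberι u ≫ pullback.fst f g).residueFieldMap z) := by
    rw [Scheme.Hom.residueFieldMap_congr hφ.symm z]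
    infer_instance
  rw [Scheme.residueFieldMap_comp] at h3
  exact (ConcreteCategory.isIso_iff_bijective _).1 (IsIso.of_isIso_comp_right _
    ((pullback.snd f g).fiberι u |>.residueFieldMap z))

theorem eq_of_fst_eq {U : Scheme.{u}} {g : U ⟶ S} {u : U} {s : S}
    (h : Hens2.IsEtaleNbhd g u s) (v w : ↑(pullback f g)) (hv : pullback.snd f g v = u)
    (hw : pullback.snd f g w = u) (he : pullback.fst f g v = pullback.fst f g w) : v = w := by
  obtain ⟨φ, hφi, hφ⟩ := exists_fiber_iso f h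
  obtain ⟨z, rfl⟩ : v ∈ Set.range ((pullback.snd f g).fiberι u) := by
    rw [Scheme.Hom.range_fiberι]; exact hv
  obtain ⟨y, rfl⟩ : w ∈ Set.range ((pullback.snd f g).fiberι u) := by
    rw [Scheme.Hom.range_fiberι]; exact hw
  rw [← Scheme.Hom.comp_apply, ← Scheme.Hom.comp_apply, ← hφ, Scheme.Hom.comp_apply,
    Scheme.Hom.comp_apply] at he
  rw [φ.isOpenEmbedding.injective ((f.fiberι s).isEmbedding.injective he)]

end Groth.Agent.FlatMorQFSplit
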